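import Groth.Prelude.Def_HTop
import Mathlib

/-!
# Valuation ring lifting and V coverings
-/

set_option autoImplicit false
universe w w' u

open CategoryTheory CategoryTheory.Limits AlgebraicGeometry IsLocalRing

namespace Groth.Agent.VTop

open HTop

variable {T : Scheme.{u}}

theorem mem_of_closedPoint {V : CommRingCat.{u}} [IsLocalRing V] {P : Scheme.{u}} (g : Spec V ⟶ P)
    (O : P.Opens) (h : g (closedPoint V) ∈ O) (z : Spec V) : g z ∈ O :=
  ((specializes_closedPoint (R := V) z).map g.continuous).mem_open O.2 h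

/-- A morphism from the spectrum of a local ring factors through an open immersion as soon as the closed
point lands in the image. -/
theorem exists_lift_openImmersion {V : CommRingCat.{u}} [IsLocalRing V] {P Q : Scheme.{u}} (g : Spec V ⟶ P)
    (ι : Q ⟶ P) [IsOpenImmersion ι] (h : g (closedPoint V) ∈ Set.range ι) :
    ∃ g' : Spec V ⟶ Q, g' ≫ ι = g := by
  refine ⟨IsOpenImmersion.lift ι g ?_, IsOpenImmersion.lift_fac _ _ _⟩
  rintro _ ⟨z, rfl⟩
  exact mem_of_closedPoint g ι.opensRange h z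

/-- A specialisation is realised by a valuation ring. -/
theorem exists_valuationRing {P : Scheme.{u}} {w' w : P} (h : w' ⤳ w) :
    ∃ (W : CommRingCat.{u}) (_ : IsDomain W) (_ : ValuationRing W) (g : Spec W ⟶ P),
      g ⟨⊥, Ideal.isPrime_bot⟩ = w' ∧ g (closedPoint W) = w := by
  let a : P.presheaf.stalk w ⟶ P.residueField w' := P.presheaf.stalkSpecializes h ≫ P.residue w'
  obtain ⟨A, hA, hAloc⟩ := exists_factor_valuationRing a.hom
  let b : P.presheaf.stalk w ⟶ CommRingCat.of A := CommRingCat.ofHom (a.hom.codRestrict A.toSubring hA)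
  refine ⟨CommRingCat.of A, inferInstanceAs (IsDomain A), inferInstanceAs (ValuationRing A),
    Spec.map b ≫ P.fromSpecStalk w, ?_, ?_⟩
  · let j : CommRingCat.of A ⟶ P.residueField w' := CommRingCat.ofHom A.toSubring.subtype
    have hj : (Spec.map j (closedPoint (P.residueField w')) : Spec (CommRingCat.of A)) =
        ⟨⊥, Ideal.isPrime_bot⟩ := by
      apply PrimeSpectrum.ext
      show Ideal.comap A.toSubring.subtype (maximalIdeal _) = ⊥
      rw [IsLocalRing.maximalIdeal_eq_bot]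
      exact (RingHom.injective_iff_ker_eq_bot _).mp Subtype.val_injective
    have hba : b ≫ j = a := rfl
    rw [← hj, ← Scheme.Hom.comp_apply, ← Spec.map_comp_assoc, hba]
    simp only [a, Spec.map_comp, Category.assoc, Scheme.SpecMap_stalkSpecializes_fromSpecStalk]
    exact Scheme.fromSpecResidueField_apply w' _
  · rw [Scheme.Hom.comp_apply]
    have : Spec.map b (closedPoint (CommRingCat.of A)) = closedPoint (P.presheaf.stalk w) :=
      (isLocalHom_iff_comap_closedPoint (S := A) (a.hom.codRestrict A.toSubring hA)).mp hAloc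
    rw [this, Scheme.fromSpecStalk_closedPoint]

/-- A morphism of schemes between spectra of valuation rings comes from an extension of valuation rings as soon
as it preserves the generic and the closed point. -/
theorem isExtVal_of_map {V W : CommRingCat.{u}} [IsDomain V] [ValuationRing V] [IsDomain W] [ValuationRing W]
    (φ : V ⟶ W) (h1 : Spec.map φ ⟨⊥, Ideal.isPrime_bot⟩ = ⟨⊥, Ideal.isPrime_bot⟩)
    (h2 : Spec.map φ (closedPoint W) = closedPoint V) : IsExtVal V W φ := by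
  refine ⟨(RingHom.injective_iff_ker_eq_bot φ.hom).mpr ?_, (isLocalHom_iff_comap_closedPoint φ.hom).mpr h2⟩
  exact congrArg PrimeSpectrum.asIdeal h1

theorem map_bot_of_isExtVal {V W : CommRingCat.{u}} [IsDomain V] [ValuationRing V] [IsDomain W]
    [ValuationRing W] {φ : V ⟶ W} (h : IsExtVal V W φ) :
    Spec.map φ ⟨⊥, Ideal.isPrime_bot⟩ = ⟨⊥, Ideal.isPrime_bot⟩ :=
  PrimeSpectrum.ext ((RingHom.injective_iff_ker_eq_bot φ.hom).mp h.1)

theorem map_closed_of_isExtVal {V W : CommRingCat.{u}} [IsDomain V] [ValuationRing V] [IsDomain W]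
    [ValuationRing W] {φ : V ⟶ W} (h : IsExtVal V W φ) : Spec.map φ (closedPoint W) = closedPoint V :=
  (isLocalHom_iff_comap_closedPoint φ.hom).mp h.2

theorem isExtVal_comp {V W X : CommRingCat.{u}} [IsDomain V] [ValuationRing V] [IsDomain W] [ValuationRing W]
    [IsDomain X] [ValuationRing X] {φ : V ⟶ W} {ψ : W ⟶ X} (h : IsExtVal V W φ) (h' : IsExtVal W X ψ) :
    IsExtVal V X (φ ≫ ψ) := by
  refine isExtVal_of_map _ ?_ ?_
  · rw [Spec.map_comp, Scheme.Hom.comp_apply, map_bot_of_isExtVal h', map_bot_of_isExtVal h]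
  · rw [Spec.map_comp, Scheme.Hom.comp_apply, map_closed_of_isExtVal h', map_closed_of_isExtVal h]

/-- A specialisation over generic and closed point gives an extension of valuation rings. -/
theorem exists_ext_of_specializes {V : CommRingCat.{u}} [IsDomain V] [ValuationRing V] {P : Scheme.{u}}
    (p : P ⟶ Spec V) {w' w : P} (h : w' ⤳ w) (hη : p w' = ⟨⊥, Ideal.isPrime_bot⟩)
    (hc : p w = closedPoint V) :
    ∃ (W : CommRingCat.{u}) (_ : IsDomain W) (_ : ValuationRing W) (φ : V ⟶ W),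
      IsExtVal V W φ ∧ ∃ g : Spec W ⟶ P, g ≫ p = Spec.map φ ∧ g (closedPoint W) = w := by
  obtain ⟨W, hW, hWv, g, hg', hg⟩ := exists_valuationRing h
  refine ⟨W, hW, hWv, Spec.preimage (g ≫ p), isExtVal_of_map _ ?_ ?_, g, (Spec.map_preimage _).symm, hg⟩
  · rw [Spec.map_preimage, Scheme.Hom.comp_apply, hg', hη]
  · rw [Spec.map_preimage, Scheme.Hom.comp_apply, hg, hc]

/-- Criterion for the lifting condition in terms of specialisations. -/
theorem hasValLift_of_specializes (E : PreZeroHypercover.{w} T)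
    (H : ∀ (V : CommRingCat.{u}) [IsDomain V] [ValuationRing V] (g : Spec V ⟶ T),
      ∃ (j : E.I₀) (w' w : ↑(pullback g (E.f j))), w' ⤳ w ∧
        pullback.fst g (E.f j) w' = ⟨⊥, Ideal.isPrime_bot⟩ ∧ pullback.fst g (E.f j) w = closedPoint V) :
    HasValLift E := by
  intro V _ _ g
  obtain ⟨j, w', w, h, hη, hc⟩ := H V g
  obtain ⟨W, hW, hWv, φ, hφ, g', hg', -⟩ := exists_ext_of_specializes _ h hη hc
  exact ⟨W, hW, hWv, φ, hφ, j, g' ≫ pullback.snd _ _, by
    rw [Category.assoc, ← pullback.condition, ← Category.assoc, hg']⟩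

theorem hasValLift_of_flat (E : PreZeroHypercover.{w} T) (hflat : ∀ j, Flat (E.f j))
    (hsurj : ∀ t : T, ∃ (j : E.I₀) (x : E.X j), E.f j x = t) : HasValLift E := by
  refine hasValLift_of_specializes E fun V _ _ g => ?_
  obtain ⟨j, x, hx⟩ := hsurj (g (closedPoint V))
  have := hflat j
  obtain ⟨w, hw, -⟩ := Scheme.Pullback.exists_preimage_pullback (f := g) (g := E.f j)
    (closedPoint V) x hx.symm
  have hspec : (⟨⊥, Ideal.isPrime_bot⟩ : Spec V) ⤳ pullback.fst g (E.f j) w := by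
    rw [hw]; exact specializes_closedPoint (R := V) _
  obtain ⟨w', hw', hw''⟩ := Flat.generalizingMap (pullback.fst g (E.f j)) hspec
  exact ⟨j, w', w, hw', hw'', hw⟩

theorem hasValLift_of_standardPh (E : PreZeroHypercover.{w} T) (hE : IsStandardPh E) : HasValLift E := by
  obtain ⟨U, f, ι, hf, hs, hι, hfac, hcov⟩ := hE.exists_proper
  intro V _ _ g
  obtain ⟨w', hw'⟩ := (pullback.fst g f).surjective (⟨⊥, Ideal.isPrime_bot⟩ : Spec V)
  have hspec : pullback.fst g f w' ⤳ closedPoint V := by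
    rw [hw']; exact specializes_closedPoint (R := V) _
  obtain ⟨w, hw, hwc⟩ := (pullback.fst g f).isClosedMap.specializingMap hspec
  obtain ⟨W, hW, hWv, φ, hφ, g', hg', hgc⟩ := exists_ext_of_specializes _ hw hw' hwc
  obtain ⟨j, hj⟩ := hcov (pullback.snd g f w)
  have := hι j
  obtain ⟨g'', hg''⟩ := exists_lift_openImmersion (g' ≫ pullback.snd g f) (ι j)
    (by rw [Scheme.Hom.comp_apply, hgc]; exact hj)
  exact ⟨W, hW, hWv, φ, hφ, j, g'', by
    rw [← hfac j, ← Category.assoc, hg'', Category.assoc, ← pullback.condition, ← Category.assoc, hg']⟩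

theorem hasValLift_pullback₁ {T' : Scheme.{u}} (g : T' ⟶ T) (E : PreZeroHypercover.{w} T)
    (hE : HasValLift E) : HasValLift (E.pullback₁ g) := by
  intro V _ _ g'
  obtain ⟨W, hW, hWv, φ, hφ, j, h, hh⟩ := hE V (g' ≫ g)
  exact ⟨W, hW, hWv, φ, hφ, j, pullback.lift (Spec.map φ ≫ g') h (by rw [hh, Category.assoc]),
    pullback.lift_fst _ _ _⟩

theorem hasValLift_bind (E : PreZeroHypercover.{w} T) (F : ∀ j, PreZeroHypercover.{w'} (E.X j))
    (hE : HasValLift E) (hF : ∀ j, HasValLift (F j)) : HasValLift (E.bind F) := by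
  intro V _ _ g
  obtain ⟨W, hW, hWv, φ, hφ, j, h, hh⟩ := hE V g
  obtain ⟨X, hX, hXv, ψ, hψ, i, k, hk⟩ := hF j W h
  refine ⟨X, hX, hXv, φ ≫ ψ, isExtVal_comp hφ hψ, ⟨j, i⟩, k, ?_⟩
  show k ≫ (F j).f i ≫ E.f j = _
  rw [← Category.assoc, hk, Category.assoc, hh, Spec.map_comp, Category.assoc]

theorem isStandardV_pullback₁ {T' : Scheme.{u}} [IsAffine T'] (g : T' ⟶ T) (E : PreZeroHypercover.{w} T)
    (hE : IsStandardV E) : IsStandardV (E.pullback₁ g) := by
  have := hE.isAffine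
  have := hE.isAffine_obj
  exact ⟨inferInstance, hE.finite_index, fun j => inferInstanceAs (IsAffine (pullback g (E.f j))),
    hasValLift_pullback₁ g E hE.lift⟩

theorem isStandardV_bind (E : PreZeroHypercover.{w} T) (F : ∀ j, PreZeroHypercover.{w'} (E.X j))
    (hE : IsStandardV E) (hF : ∀ j, IsStandardV (F j)) : IsStandardV (E.bind F) := by
  have := hE.finite_index
  have := fun j => (hF j).finite_index
  exact ⟨hE.isAffine, inferInstanceAs (Finite (Σ i : E.I₀, (F i).I₀)), fun j => (hF j.1).isAffine_obj j.2,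
    hasValLift_bind E F hE.lift fun j => (hF j).lift⟩

theorem isStandardV_restrictIndex_equiv (E : PreZeroHypercover.{w} T) {ι : Type w'} (e : ι ≃ E.I₀)
    (hE : IsStandardV E) : IsStandardV (E.restrictIndex e) := by
  have := hE.finite_index
  refine ⟨hE.isAffine, Finite.of_equiv _ e.symm, fun j => hE.isAffine_obj (e j), fun V _ _ g => ?_⟩
  obtain ⟨W, hW, hWv, φ, hφ, j, h, hh⟩ := hE.lift V g
  obtain ⟨i, rfl⟩ := e.surjective j
  exact ⟨W, hW, hWv, φ, hφ, i, h, hh⟩

/-- Standard refinements may be indexed in universe zero. -/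
theorem exists_small {S : Scheme.{u}} (h : S ⟶ T) (F : PreZeroHypercover.{w'} S) (E : PreZeroHypercover.{w} T)
    (hF : IsStandardV F) (hr : RefinesOver h F E) :
    ∃ F' : PreZeroHypercover.{0} S, IsStandardV F' ∧ RefinesOver h F' E := by
  have := hF.finite_index
  obtain ⟨n, ⟨e⟩⟩ := Finite.exists_equiv_fin F.I₀
  exact ⟨F.restrictIndex e.symm, isStandardV_restrictIndex_equiv F e.symm hF, fun j => hr (e.symm j)⟩

theorem hasValLift_of_isVCover (E : PreZeroHypercover.{w} T) (hE : IsVCover E) : HasValLift E := by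
  intro V _ _ g
  obtain ⟨U, hU, hgU, -⟩ := (T.isBasis_affineOpens).exists_subset_of_mem_open
    (Set.mem_univ (g (closedPoint V))) isOpen_univ
  obtain ⟨U, hU, rfl⟩ := hU
  obtain ⟨g₀, hg₀⟩ := exists_lift_openImmersion g (Scheme.Opens.ι U) (by simpa using hgU)
  obtain ⟨F, hF, hr⟩ := hE ⟨U, hU⟩
  obtain ⟨W, hW, hWv, φ, hφ, j, g', hg'⟩ := hF.lift V g₀
  obtain ⟨i, h, hh⟩ := hr j
  exact ⟨W, hW, hWv, φ, hφ, i, g' ≫ h, by
    rw [Category.assoc, hh, ← Category.assoc, hg', Category.assoc, hg₀]⟩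

/-- A V covering can be refined over every affine scheme mapping to the target by a standard V covering. -/
theorem exists_standard_refinesOver (E : PreZeroHypercover.{w} T) (hE : IsVCover E) {S : Scheme.{u}} [IsAffine S]
    (h : S ⟶ T) : ∃ F : PreZeroHypercover.{0} S, IsStandardV F ∧ RefinesOver h F E := by
  classical
  have hloc : ∀ s : S, ∃ (U : T.affineOpens) (D : S.Opens), IsAffineOpen D ∧ s ∈ D ∧
      D ≤ h ⁻¹ᵁ (U : T.Opens) := fun s => by
    obtain ⟨U, hU, hsU, -⟩ := (T.isBasis_affineOpens).exists_subset_of_mem_open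
      (Set.mem_univ (h s)) isOpen_univ
    obtain ⟨U, hU, rfl⟩ := hU
    obtain ⟨D, hD, hsD, hDU⟩ := (S.isBasis_affineOpens).exists_subset_of_mem_open
      (show s ∈ (h ⁻¹ᵁ U : Set S) from hsU) (h ⁻¹ᵁ U).2
    obtain ⟨D, hD, rfl⟩ := hD
    exact ⟨⟨U, hU⟩, D, hD, hsD, hDU⟩
  choose U D hDa hsD hDU using hloc
  obtain ⟨t, ht⟩ := (isCompact_univ (X := S)).elim_finite_subcover (fun s => (D s : Set S))
    (fun s => (D s).2) (fun s _ => Set.mem_iUnion.mpr ⟨s, hsD s⟩)
  choose F hF hr using fun s => hE (U s)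
  let Z : PreZeroHypercover.{u} S :=
    { I₀ := ↥t, X := fun k => (D k.1 : Scheme.{u}), f := fun k => (D k.1).ι }
  let q : ∀ k : ↥t, (D k.1 : Scheme.{u}) ⟶ ((U k.1 : T.Opens) : Scheme.{u}) := fun k =>
    S.homOfLE (hDU k.1) ≫ h ∣_ (U k.1 : T.Opens)
  have hq : ∀ k : ↥t, q k ≫ (U k.1 : T.Opens).ι = (D k.1).ι ≫ h := fun k => by
    simp [q]
  let G : ∀ k : ↥t, PreZeroHypercover.{0} (D k.1 : Scheme.{u}) := fun k => (F k.1).pullback₁ (q k)
  have hG : ∀ k, IsStandardV (G k) := fun k => by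
    have : IsAffine (D k.1 : Scheme.{u}) := hDa k.1
    exact isStandardV_pullback₁ _ _ (hF k.1)
  have hZ : IsStandardV Z := by
    refine ⟨inferInstance, inferInstanceAs (Finite ↥t), fun k => hDa k.1, fun V _ _ g => ?_⟩
    obtain ⟨s, hs, hgs⟩ := Set.mem_iUnion₂.mp (ht (Set.mem_univ (g (closedPoint V))))
    obtain ⟨g₀, hg₀⟩ := exists_lift_openImmersion g (D s).ι (by simpa using hgs)
    refine ⟨V, _, _, 𝟙 V, isExtVal_of_map _ (by rw [Spec.map_id]; rfl) (by rw [Spec.map_id]; rfl), ⟨s, hs⟩, g₀, ?_⟩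
    simpa [Z] using hg₀
  refine exists_small h (Z.bind G) E (isStandardV_bind Z G hZ hG) ?_
  rintro ⟨k, j⟩
  obtain ⟨i, a, ha⟩ := hr k.1 j
  refine ⟨i, pullback.snd (q k) ((F k.1).f j) ≫ a, ?_⟩
  show (pullback.snd (q k) ((F k.1).f j) ≫ a) ≫ E.f i =
    (pullback.fst (q k) ((F k.1).f j) ≫ (D k.1).ι) ≫ h
  rw [Category.assoc, ha, ← Category.assoc, ← pullback.condition, Category.assoc, hq, Category.assoc]

theorem isVCover_pullback₁ {T' : Scheme.{u}} (g : T' ⟶ T) (E : PreZeroHypercover.{w} T) (hE : IsVCover E) :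
    IsVCover (E.pullback₁ g) := by
  intro U
  have : IsAffine ((U : T'.Opens) : Scheme.{u}) := U.2
  obtain ⟨F, hF, hr⟩ := exists_standard_refinesOver E hE ((U : T'.Opens).ι ≫ g)
  refine ⟨F, hF, fun j => ?_⟩
  obtain ⟨i, a, ha⟩ := hr j
  exact ⟨i, pullback.lift (F.f j ≫ (U : T'.Opens).ι) a (by rw [ha, Category.assoc]),
    pullback.lift_fst _ _ _⟩

theorem isVCover_bind (E : PreZeroHypercover.{w} T) (hE : IsVCover E)
    (F : ∀ i, PreZeroHypercover.{w'} (E.X i)) (hF : ∀ i, IsVCover (F i)) : IsVCover (E.bind F) := by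
  intro U
  obtain ⟨G, hG, hr⟩ := hE U
  choose i a ha using hr
  have := hG.isAffine_obj
  choose K hK hrK using fun j => exists_standard_refinesOver (F (i j)) (hF (i j)) (a j)
  refine exists_small _ (G.bind K) _ (isStandardV_bind G K hG hK) ?_
  rintro ⟨j, l⟩
  obtain ⟨m, b, hb⟩ := hrK j l
  refine ⟨⟨i j, m⟩, b, ?_⟩
  show b ≫ (F (i j)).f m ≫ E.f (i j) = ((K j).f l ≫ G.f j) ≫ (U : T.Opens).ι
  rw [← Category.assoc, hb, Category.assoc, ha, Category.assoc]

theorem isVCover_of_fpqc (𝒰 : PreZeroHypercover.{w} T) [QuasiCompactCover 𝒰] (hflat : ∀ i, Flat (𝒰.f i)) :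
    IsVCover 𝒰 := by
  intro U
  obtain ⟨n, k, V, hV, hVU⟩ := QuasiCompactCover.exists_isAffineOpen_of_isCompact 𝒰 U.2.isCompact
  have hle : ∀ l, V l ≤ 𝒰.f (k l) ⁻¹ᵁ (U : T.Opens) := fun l x hx =>
    hVU.le (Set.mem_iUnion.mpr ⟨l, x, hx, rfl⟩)
  let F : PreZeroHypercover.{0} ((U : T.Opens) : Scheme.{u}) :=
    { I₀ := Fin n, X := fun l => (V l : Scheme.{u}),
      f := fun l => (𝒰.f (k l)).resLE (U : T.Opens) (V l) (hle l) }
  refine ⟨F, ⟨U.2, inferInstanceAs (Finite (Fin n)), fun l => hV l,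
    hasValLift_of_flat F (fun l => ?_) (fun t => ?_)⟩, fun l => ?_⟩
  · have := hflat (k l)
    show Flat ((𝒰.f (k l)).resLE (U : T.Opens) (V l) (hle l))
    infer_instance
  · obtain ⟨l, x, hx, hxt⟩ := Set.mem_iUnion.mp (hVU.ge t.2)
    refine ⟨l, ⟨x, hx⟩, (U : T.Opens).ι.injective ?_⟩
    show ((𝒰.f (k l)).resLE (U : T.Opens) (V l) (hle l) ≫ (U : T.Opens).ι) ⟨x, hx⟩ = _
    rw [Scheme.Hom.resLE_comp_ι]
    exact hxt
  · exact ⟨k l, (V l).ι, (Scheme.Hom.resLE_comp_ι _ _).symm⟩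

theorem isVCover_singleton_iff {X Y : Scheme.{u}} (f : X ⟶ Y) [QuasiCompact f] :
    IsVCover (PreZeroHypercover.singleton.{w} f) ↔ HasValLift (PreZeroHypercover.singleton.{w} f) := by
  refine ⟨hasValLift_of_isVCover _, fun H U => ?_⟩
  obtain ⟨s, hs, hsf, hsU⟩ := X.isBasis_affineOpens.exists_finite_of_isCompact
    (U := f ⁻¹ᵁ (U : Y.Opens)) (f.isCompact_preimage U.2.isCompact)
  have := hsf.to_subtype
  have hle : ∀ O : s, (O : X.Opens) ≤ f ⁻¹ᵁ (U : Y.Opens) := fun O => hsU ▸ le_sSup O.2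
  let G : PreZeroHypercover.{u} ((U : Y.Opens) : Scheme.{u}) :=
    { I₀ := s, X := fun O => ((O : X.Opens) : Scheme.{u}),
      f := fun O => f.resLE (U : Y.Opens) (O : X.Opens) (hle O) }
  refine exists_small _ G _ ⟨U.2, inferInstanceAs (Finite ↥s), fun O => hs O.2, fun V _ _ g => ?_⟩
    fun O => ⟨PUnit.unit, (Scheme.Opens.ι (O : X.Opens)), (Scheme.Hom.resLE_comp_ι _ _).symm⟩
  obtain ⟨W, hW, hWv, φ, hφ, _j, g', hg'⟩ := H V (g ≫ (U : Y.Opens).ι)
  change Spec W ⟶ X at g'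
  change g' ≫ f = _ at hg'
  have hmem : g' (closedPoint W) ∈ f ⁻¹ᵁ (U : Y.Opens) := by
    show f (g' (closedPoint W)) ∈ (U : Y.Opens)
    rw [← Scheme.Hom.comp_apply, hg']
    simp only [Scheme.Hom.comp_apply]
    exact (g _).2
  rw [hsU] at hmem
  obtain ⟨O, hO, hmem⟩ := TopologicalSpace.Opens.mem_sSup.mp hmem
  obtain ⟨g'', hg''⟩ := exists_lift_openImmersion g' (Scheme.Opens.ι O) (by simpa using hmem)
  refine ⟨W, hW, hWv, φ, hφ, ⟨O, hO⟩, g'', ?_⟩
  show g'' ≫ f.resLE (U : Y.Opens) O (hle ⟨O, hO⟩) = _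
  rw [← cancel_mono (U : Y.Opens).ι, Category.assoc, Scheme.Hom.resLE_comp_ι, ← Category.assoc, hg'',
    hg', Category.assoc]

theorem hasValLift_singleton_iff {X Y : Scheme.{u}} (f : X ⟶ Y) :
    HasValLift (PreZeroHypercover.singleton.{w} f) ↔
      ∀ (Z : Scheme.{u}) (g : Z ⟶ Y) (z' z : Z), z' ⤳ z →
        ∃ w' w : ↑(pullback g f), w' ⤳ w ∧ pullback.fst g f w' = z' ∧ pullback.fst g f w = z := by
  constructor
  · intro H Z g z' z hz
    obtain ⟨A, hA, hAv, a, ha', ha⟩ := exists_valuationRing hz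
    obtain ⟨W, hW, hWv, φ, hφ, _j, g', hg'⟩ := H A (a ≫ g)
    change Spec W ⟶ X at g'
    change g' ≫ f = _ at hg'
    let l : Spec W ⟶ pullback g f := pullback.lift (Spec.map φ ≫ a) g' (by rw [hg', Category.assoc])
    refine ⟨l ⟨⊥, Ideal.isPrime_bot⟩, l (closedPoint W), (specializes_closedPoint (R := W) _).map l.continuous, ?_, ?_⟩
    · rw [← Scheme.Hom.comp_apply, pullback.lift_fst, Scheme.Hom.comp_apply, map_bot_of_isExtVal hφ, ha']
    · rw [← Scheme.Hom.comp_apply, pullback.lift_fst, Scheme.Hom.comp_apply, map_closed_of_isExtVal hφ, ha]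
  · intro H
    refine hasValLift_of_specializes _ fun V _ _ g => ⟨PUnit.unit, ?_⟩
    exact H (Spec V) g _ _ (specializes_closedPoint (R := V) ⟨⊥, Ideal.isPrime_bot⟩)

theorem isStandardPh_pullback₁ {T' : Scheme.{u}} [IsAffine T'] (g : T' ⟶ T) (E : PreZeroHypercover.{w} T)
    (hE : IsStandardPh E) : IsStandardPh (E.pullback₁ g) := by
  have := hE.isAffine
  have := hE.isAffine_obj
  obtain ⟨U, f, ι, hf, hs, hι, hfac, hcov⟩ := hE.exists_proper
  let κ : ∀ j, pullback g (E.f j) ⟶ pullback g f := fun j =>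
    pullback.map g (E.f j) g f (𝟙 _) (ι j) (𝟙 _) (by simp) (by simp [hfac j])
  refine ⟨inferInstance, hE.finite_index, fun j => inferInstanceAs (IsAffine (pullback g (E.f j))),
    pullback g f, pullback.fst g f, κ, inferInstance, inferInstance, fun j => ?_,
    fun j => ?_, fun x => ?_⟩
  · have := hι j
    show IsOpenImmersion (κ j)
    infer_instance
  · exact (pullback.lift_fst _ _ _).trans (Category.comp_id _)
  · obtain ⟨j, y, hy⟩ := hcov (pullback.snd g f x)
    refine ⟨j, ?_⟩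
    have : Set.range (κ j) =
        pullback.fst g f ⁻¹' Set.range (𝟙 T' : T' ⟶ T') ∩ pullback.snd g f ⁻¹' Set.range (ι j) :=
      Scheme.Pullback.range_map _ _ _ _ _ _ _ _ _
    show x ∈ Set.range (κ j)
    rw [this]
    exact ⟨⟨_, rfl⟩, y, hy⟩

end Groth.Agent.VTop
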