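import Groth.Agent.VTop.Basic

/-!
# The sheaf condition for V coverings
-/

set_option autoImplicit false
universe w w' v u

open CategoryTheory CategoryTheory.Limits AlgebraicGeometry Opposite

namespace Groth.Agent.VTop

open HTop

variable {T : Scheme.{u}}

theorem isVCover_of_hom (E : PreZeroHypercover.{w} T) (E' : PreZeroHypercover.{w'} T) (φ : E.Hom E')
    (hE : IsVCover E) : IsVCover E' := fun U => by
  obtain ⟨F, hF, hr⟩ := hE U
  exact ⟨F, hF, hr.of_hom φ⟩

theorem isVCover_pullback₂ {T' : Scheme.{u}} (g : T' ⟶ T) (E : PreZeroHypercover.{w} T) (hE : IsVCover E) :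
    IsVCover (E.pullback₂ g) :=
  isVCover_of_hom (E.pullback₁ g) (E.pullback₂ g)
    { s₀ := id, h₀ := fun i => (pullbackSymmetry g (E.f i)).hom,
      w₀ := fun _ => pullbackSymmetry_hom_comp_snd _ _ }
    (isVCover_pullback₁ g E hE)

theorem isVCover_of_standard (E : PreZeroHypercover.{w} T) (hE : IsStandardV E) : IsVCover E := by
  intro U
  have : IsAffine ((U : T.Opens) : Scheme.{u}) := U.2
  refine exists_small _ (E.pullback₁ (U : T.Opens).ι) E (isStandardV_pullback₁ _ _ hE) fun j => ?_
  exact ⟨j, pullback.snd _ _, pullback.condition.symm⟩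

theorem isSheaf_zariski_of_isVSheaf (F : Scheme.{u}ᵒᵖ ⥤ Type v) (h : IsVSheaf F) :
    Presieve.IsSheaf Scheme.zariskiTopology F := by
  rw [Precoverage.isSheaf_toGrothendieck_iff_of_isStableUnderBaseChange]
  intro X R hR
  refine h R ?_
  obtain ⟨E, rfl⟩ := R.exists_eq_preZeroHypercover
  rw [presieve₀_mem_vPrecoverage_iff]
  have hq := Scheme.zariskiPrecoverage_le_fpqcPrecoverage X hR
  have : QuasiCompactCover E := Scheme.presieve₀_mem_qcPrecoverage_iff.mp hq.1
  exact isVCover_of_fpqc E fun i => hq.2.2 ⟨i⟩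

variable (F : Scheme.{u}ᵒᵖ ⥤ Type v)

theorem isStandardV_singleton_univ {X Y : Scheme.{u}} (f : X ⟶ Y)
    (h : IsStandardV (PreZeroHypercover.singleton.{w} f)) :
    IsStandardV (PreZeroHypercover.singleton.{w'} f) := by
  refine ⟨h.isAffine, inferInstanceAs (Finite PUnit), fun _ => h.isAffine_obj PUnit.unit, fun V _ _ g => ?_⟩
  obtain ⟨W, hW, hWv, φ, hφ, _j, g', hg'⟩ := h.lift V g
  exact ⟨W, hW, hWv, φ, hφ, PUnit.unit, g', hg'⟩

/-- Sheaves for one-arrow standard coverings. -/
def SingletonCond : Prop :=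
  ∀ (U V : Scheme.{u}) (f : V ⟶ U), IsStandardV (PreZeroHypercover.singleton.{u} f) →
    Presieve.IsSheafFor F (Presieve.singleton f)

theorem isSheafFor_standard (hz : Presieve.IsSheaf Scheme.zariskiTopology F) (h : SingletonCond F)
    {n : ℕ} (X : Fin n → Scheme.{u}) (f : ∀ i, X i ⟶ T) (hE : IsStandardV (PreZeroHypercover.mk (Fin n) X f)) :
    Presieve.IsSheafFor F (Presieve.ofArrows X f) := by
  have : PreservesLimitsOfShape (Discrete (Fin n × Fin n)) F :=
    preservesLimitsOfShape_discrete_of_isSheaf_zariskiTopology hz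
  have : PreservesLimitsOfShape (Discrete (Fin n)) F :=
    preservesLimitsOfShape_discrete_of_isSheaf_zariskiTopology hz
  rw [← Presieve.isSheafFor_sigmaDesc_iff f (coproductIsCoproduct X)
    (FinitaryExtensive.isVanKampen_finiteCoproducts (coproductIsCoproduct X)).isUniversal]
  refine h _ _ _ ⟨hE.isAffine, inferInstanceAs (Finite PUnit), fun _ => ?_, fun V _ _ g => ?_⟩
  · have : ∀ i, IsAffine (X i) := hE.isAffine_obj
    exact inferInstanceAs (IsAffine (∐ X))
  · obtain ⟨W, hW, hWv, φ, hφ, j, g', hg'⟩ := hE.lift V g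
    refine ⟨W, hW, hWv, φ, hφ, PUnit.unit, g' ≫ Sigma.ι X j, ?_⟩
    show (g' ≫ Sigma.ι X j) ≫ Cofan.IsColimit.desc (coproductIsCoproduct X) f = _
    have hι : Sigma.ι X j ≫ Cofan.IsColimit.desc (coproductIsCoproduct X) f = f j :=
      Cofan.IsColimit.fac (coproductIsCoproduct X) f j
    rw [Category.assoc, hι]
    exact hg'

theorem isSheafFor_small (hz : Presieve.IsSheaf Scheme.zariskiTopology F) (h : SingletonCond F)
    (G : PreZeroHypercover.{w} T) (hG : IsStandardV G) : Presieve.IsSheafFor F G.presieve₀ := by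
  have := hG.finite_index
  obtain ⟨n, ⟨e⟩⟩ := Finite.exists_equiv_fin G.I₀
  rw [← G.presieve₀_restrictIndex_equiv e.symm]
  exact isSheafFor_standard F hz h _ _ (isStandardV_restrictIndex_equiv G e.symm hG)

theorem isSeparatedFor_of_isVCover (hz : Presieve.IsSheaf Scheme.zariskiTopology F) (h : SingletonCond F)
    (E : PreZeroHypercover.{w} T) (hE : IsVCover E) : Presieve.IsSeparatedFor F E.presieve₀ := by
  intro x t₁ t₂ h₁ h₂
  apply (hz.isSheafFor _ T.affineCover.mem_grothendieckTopology).isSeparatedFor.ext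
  intro Y k hk
  obtain ⟨i⟩ := hk
  have hW : IsVCover (E.pullback₁ (T.affineCover.f i)) := isVCover_pullback₁ _ E hE
  obtain ⟨G, hG, hr⟩ := exists_standard_refinesOver E hE (T.affineCover.f i)
  have key : F.map (T.affineCover.f i).op t₁ = F.map (T.affineCover.f i).op t₂ := by
    apply (isSheafFor_small F hz h G hG).isSeparatedFor.ext
    rintro _ _ ⟨j⟩
    obtain ⟨l, c, hc⟩ := hr j
    simp only [← comp_apply, ← Functor.map_comp, ← op_comp, ← hc]
    simp only [op_comp, Functor.map_comp, comp_apply]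
    rw [h₁ _ ⟨l⟩, h₂ _ ⟨l⟩]
  exact key

theorem isSheafFor_of_affine (hz : Presieve.IsSheaf Scheme.zariskiTopology F) (h : SingletonCond F)
    [IsAffine T] (E : PreZeroHypercover.{w} T) (hE : IsVCover E) : Presieve.IsSheafFor F E.presieve₀ := by
  obtain ⟨G, hG, hr⟩ := exists_standard_refinesOver E hE (𝟙 T)
  rw [Presieve.isSheafFor_iff_generate]
  apply Presieve.isSheafFor_subsieve_aux (S := .generate G.presieve₀)
  · rw [← Sieve.generate_le_iff, Sieve.generate_sieve, Sieve.generate_le_iff, Presieve.ofArrows_le_iff]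
    intro j
    obtain ⟨l, c, hc⟩ := hr j
    exact ⟨_, c, E.f l, ⟨l⟩, by rw [hc, Category.comp_id]⟩
  · rw [← Presieve.isSheafFor_iff_generate]
    exact isSheafFor_small F hz h G hG
  · intro Y f _
    rw [← Sieve.pullbackArrows_comm, ← Presieve.isSeparatedFor_iff_generate]
    show Presieve.IsSeparatedFor F (Presieve.pullbackArrows f (Presieve.ofArrows G.X G.f))
    rw [← Presieve.ofArrows_pullback]
    exact isSeparatedFor_of_isVCover F hz h (G.pullback₂ f) (isVCover_pullback₂ f G (isVCover_of_standard G hG))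

theorem isVSheaf_of_singleton (hz : Presieve.IsSheaf Scheme.zariskiTopology F) (h : SingletonCond F) :
    IsVSheaf F := by
  intro T R hR
  obtain ⟨E, rfl⟩ := R.exists_eq_preZeroHypercover
  rw [presieve₀_mem_vPrecoverage_iff] at hR
  refine T.affineOneHypercover.isSheafFor_of_pullback hz (fun i => ?_) (fun i j k => ?_)
  · rw [← Sieve.pullbackArrows_comm, ← Presieve.isSheafFor_iff_generate,
      ← Presieve.ofArrows_pullback]
    exact isSheafFor_of_affine F hz h (T := _) (E.pullback₂ (T.affineCover.f i)) (isVCover_pullback₂ _ E hR)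
  · rw [← Sieve.pullbackArrows_comm, ← Presieve.isSeparatedFor_iff_generate,
      ← Presieve.ofArrows_pullback]
    exact isSeparatedFor_of_isVCover F hz h (E.pullback₂ _) (isVCover_pullback₂ _ E hR)

theorem isSheafFor_of_isVSheaf_standard (h : IsVSheaf F) (E : PreZeroHypercover.{w} T) (hE : IsStandardV E) :
    Presieve.IsSheafFor F E.presieve₀ :=
  h _ ((presieve₀_mem_vPrecoverage_iff E).mpr (isVCover_of_standard E hE))

end Groth.Agent.VTop
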