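import Groth.Agent.VTop.Sheaf

/-!
# V coverings are submersive
-/

set_option autoImplicit false
universe w w' u

open CategoryTheory CategoryTheory.Limits AlgebraicGeometry IsLocalRing

namespace Groth.Agent.VTop

open HTop

variable {T : Scheme.{u}}

theorem exists_preimage_of_hasValLift (E : PreZeroHypercover.{w} T) (hE : HasValLift E) (t : T) :
    ∃ (j : E.I₀) (x : E.X j), E.f j x = t := by
  obtain ⟨W, hW, hWv, g, -, hg⟩ := exists_valuationRing (specializes_rfl : t ⤳ t)
  obtain ⟨X, hX, hXv, φ, hφ, j, g', hg'⟩ := hE W g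
  refine ⟨j, g' (closedPoint X), ?_⟩
  rw [← Scheme.Hom.comp_apply, hg', Scheme.Hom.comp_apply, map_closed_of_isExtVal hφ, hg]

theorem stableUnderSpecialization_of_hasValLift (E : PreZeroHypercover.{w} T) (hE : HasValLift E) (A : Set T)
    (hA : ∀ j, IsClosed (E.f j ⁻¹' A)) : StableUnderSpecialization A := by
  intro z' z hz hz'
  obtain ⟨W, hW, hWv, g, hg', hg⟩ := exists_valuationRing hz
  obtain ⟨X, hX, hXv, φ, hφ, j, k, hk⟩ := hE W g
  have h1 : k ⟨⊥, Ideal.isPrime_bot⟩ ∈ E.f j ⁻¹' A := by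
    show E.f j (k _) ∈ A
    rw [← Scheme.Hom.comp_apply, hk, Scheme.Hom.comp_apply, map_bot_of_isExtVal hφ, hg']
    exact hz'
  have h2 : k (closedPoint X) ∈ E.f j ⁻¹' A :=
    ((specializes_closedPoint (R := X) _).map k.continuous).mem_closed (hA j) h1
  have h3 : E.f j (k (closedPoint X)) ∈ A := h2
  rwa [← Scheme.Hom.comp_apply, hk, Scheme.Hom.comp_apply, map_closed_of_isExtVal hφ, hg] at h3

theorem isClosed_image_of_affine {P Q : Scheme.{u}} [IsAffine P] [IsAffine Q] (p : P ⟶ Q) (Z : Set P)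
    (hZ : IsClosed Z) (hs : StableUnderSpecialization (p '' Z)) : IsClosed (p '' Z) := by
  obtain ⟨φ, hφ⟩ := Spec.map_surjective (P.isoSpec.inv ≫ p ≫ Q.isoSpec.hom)
  let eP := P.isoSpec.inv.homeomorph
  let eQ := Q.isoSpec.hom.homeomorph
  have h : eQ '' (p '' Z) = PrimeSpectrum.comap φ.hom '' (eP ⁻¹' Z) := by
    have hfun : ∀ x, PrimeSpectrum.comap φ.hom x = eQ (p (eP x)) := fun x => by
      show (Spec.map φ) x = _
      rw [hφ]; rfl
    ext z
    constructor
    · rintro ⟨_, ⟨x, hx, rfl⟩, rfl⟩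
      obtain ⟨y, rfl⟩ := eP.surjective x
      exact ⟨y, hx, hfun y⟩
    · rintro ⟨y, hy, rfl⟩
      exact ⟨p (eP y), ⟨eP y, hy, rfl⟩, (hfun y).symm⟩
  rw [← eQ.isClosed_image, h]
  refine PrimeSpectrum.isClosed_image_of_stableUnderSpecialization φ.hom _
    (hZ.preimage eP.continuous) ?_
  rw [← h]
  intro a b hab ha
  obtain ⟨a, rfl⟩ := eQ.surjective a
  obtain ⟨b, rfl⟩ := eQ.surjective b
  obtain ⟨a', ha', e⟩ := ha
  exact ⟨b, hs (eQ.isInducing.specializes_iff.mp hab) (eQ.injective e ▸ ha'), rfl⟩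

theorem isClosed_of_isStandardV (E : PreZeroHypercover.{0} T) (hE : IsStandardV E) (A : Set T)
    (hA : ∀ j, IsClosed (E.f j ⁻¹' A)) : IsClosed A := by
  have := hE.isAffine
  have := hE.isAffine_obj
  have := hE.finite_index
  have hfac : ∀ j, Sigma.ι E.X j ≫ Sigma.desc E.f = E.f j := fun j => Sigma.ι_desc _ _
  have hsurj : Function.Surjective (Sigma.desc E.f) := fun t => by
    obtain ⟨j, x, hx⟩ := exists_preimage_of_hasValLift E hE.lift t
    exact ⟨Sigma.ι E.X j x, by rw [← Scheme.Hom.comp_apply, hfac, hx]⟩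
  have hcl : IsClosed (Sigma.desc E.f ⁻¹' A) := by
    rw [(sigmaOpenCover E.X).isOpenCover_opensRange.isClosed_iff_coe_preimage]
    intro i
    let e : (E.X i : Scheme.{u}) ≃ₜ ↥((sigmaOpenCover E.X).f i).opensRange :=
      (Sigma.ι E.X i).isOpenEmbedding.isEmbedding.toHomeomorph
    rw [← e.isClosed_preimage, ← Set.preimage_comp]
    convert! hA i using 1
    rw [← hfac i]; rfl
  rw [← Set.image_preimage_eq A hsurj]
  refine isClosed_image_of_affine _ _ hcl ?_
  rw [Set.image_preimage_eq A hsurj]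
  exact stableUnderSpecialization_of_hasValLift E hE.lift A hA

theorem isClosed_of_isVCover (E : PreZeroHypercover.{w} T) (hE : IsVCover E) (A : Set T)
    (hA : ∀ j, IsClosed (E.f j ⁻¹' A)) : IsClosed A := by
  have hc : TopologicalSpace.IsOpenCover (fun U : T.affineOpens => (U : T.Opens)) :=
    T.isBasis_affineOpens.isOpenCover
  rw [hc.isClosed_iff_coe_preimage]
  intro U
  obtain ⟨F, hF, hr⟩ := hE U
  refine isClosed_of_isStandardV F hF (Subtype.val ⁻¹' A) fun j => ?_
  obtain ⟨i, h, hh⟩ := hr j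
  convert! (hA i).preimage h.continuous using 1
  rw [← Set.preimage_comp, ← Set.preimage_comp]
  show ((F.f j ≫ (U : T.Opens).ι : _ → _)) ⁻¹' A = (h ≫ E.f i : _ → _) ⁻¹' A
  rw [hh]

theorem univSubmersive (E : PreZeroHypercover.{u} T) (hE : IsVCover E) :
    MorphismProperty.universally (AlgebraicGeometry.topologically fun f => Topology.IsQuotientMap f)
      (Sigma.desc E.f) := by
  intro P Y g' g f' sq
  have hW := isVCover_pullback₁ g E hE
  let l : ∀ i, pullback g (E.f i) ⟶ P := fun i =>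
    sq.lift (pullback.fst g (E.f i)) (pullback.snd g (E.f i) ≫ Sigma.ι E.X i)
      (by rw [Category.assoc, Sigma.ι_desc, pullback.condition])
  have hl : ∀ i, l i ≫ f' = pullback.fst g (E.f i) := fun i => sq.lift_fst _ _ _
  have hsurj : Function.Surjective f' := fun y => by
    obtain ⟨j, x, hx⟩ := exists_preimage_of_hasValLift _ (hasValLift_of_isVCover _ hW) y
    exact ⟨l j x, by rw [← Scheme.Hom.comp_apply, hl]; exact hx⟩
  refine Topology.isQuotientMap_iff_isClosed.mpr ⟨hsurj, fun A => ⟨fun h => h.preimage f'.continuous, fun h => ?_⟩⟩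
  refine isClosed_of_isVCover _ hW A fun i => ?_
  show IsClosed (pullback.fst g (E.f i) ⁻¹' A)
  rw [← hl i]
  exact h.preimage (l i).continuous

end Groth.Agent.VTop
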