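import Groth.Agent.VTop.Basic

/-!
# Zariski sheaves with descent along proper surjections are ph sheaves
-/

set_option autoImplicit false
universe w w' v u

open CategoryTheory CategoryTheory.Limits AlgebraicGeometry Opposite

namespace Groth.Agent.VTop

open HTop

variable {T : Scheme.{u}}

/-- The family is cut out of one proper surjective morphism by an open covering of its source. -/
def HasPhData (E : PreZeroHypercover.{w} T) : Prop :=
  ∃ (U : Scheme.{u}) (f : U ⟶ T) (ι : ∀ j, E.X j ⟶ U),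
    IsProper f ∧ Surjective f ∧ (∀ j, IsOpenImmersion (ι j)) ∧ (∀ j, ι j ≫ f = E.f j) ∧
      ∀ x : U, ∃ j, x ∈ Set.range (ι j).base

theorem hasPhData_pullback₁ {T' : Scheme.{u}} (g : T' ⟶ T) (E : PreZeroHypercover.{w} T)
    (hE : HasPhData E) : HasPhData (E.pullback₁ g) := by
  obtain ⟨U, f, ι, hf, hs, hι, hfac, hcov⟩ := hE
  let κ : ∀ j, pullback g (E.f j) ⟶ pullback g f := fun j =>
    pullback.map g (E.f j) g f (𝟙 _) (ι j) (𝟙 _) (by simp) (by simp [hfac j])
  refine ⟨pullback g f, pullback.fst g f, κ, inferInstance, inferInstance, fun j => ?_,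
    fun j => ?_, fun x => ?_⟩
  · have := hι j
    show IsOpenImmersion (κ j)
    infer_instance
  · exact (pullback.lift_fst _ _ _).trans (Category.comp_id _)
  · obtain ⟨j, y, hy⟩ := hcov (pullback.snd g f x)
    refine ⟨j, ?_⟩
    have : Set.range (κ j) =
        pullback.fst g f ⁻¹' Set.range (𝟙 T' : T' ⟶ T') ∩ pullback.snd g f ⁻¹' Set.range (ι j) :=
      Scheme.Pullback.range_map _ _ _ _ _ _ _ _ _
    show x ∈ Set.range (κ j)
    rw [this]
    exact ⟨⟨_, rfl⟩, y, hy⟩

variable (F : Scheme.{u}ᵒᵖ ⥤ Type v)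

/-- Sheaves for proper surjective morphisms. -/
def ProperCond : Prop :=
  ∀ (U V : Scheme.{u}) (f : V ⟶ U), IsProper f → Surjective f → Presieve.IsSheafFor F (Presieve.singleton f)

theorem ext_of_openImmersions (hz : Presieve.IsSheaf Scheme.zariskiTopology F) {U : Scheme.{u}} {I : Type w}
    (X : I → Scheme.{u}) (ι : ∀ i, X i ⟶ U) (hι : ∀ i, IsOpenImmersion (ι i))
    (hcov : ∀ x : U, ∃ i, x ∈ Set.range (ι i).base) {s t : F.obj (op U)}
    (h : ∀ i, F.map (ι i).op s = F.map (ι i).op t) : s = t := by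
  choose idx hidx using hcov
  let 𝒰 : U.OpenCover :=
    { I₀ := U, X := fun x => X (idx x), f := fun x => ι (idx x),
      mem₀ := by
        rw [Scheme.presieve₀_mem_precoverage_iff]
        exact ⟨fun x => ⟨x, hidx x⟩, fun x => hι _⟩ }
  apply (hz.isSheafFor _ 𝒰.mem_grothendieckTopology).isSeparatedFor.ext
  intro Y k hk
  obtain ⟨i⟩ := hk
  exact h _

theorem isSheafFor_of_hasPhData (hz : Presieve.IsSheaf Scheme.zariskiTopology F) (hp : ProperCond F)
    (E : PreZeroHypercover.{w} T) (hE : HasPhData E) : Presieve.IsSheafFor F E.presieve₀ := by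
  obtain ⟨U, f, ι, hf, hs, hι, hfac, hcov⟩ := hE
  choose idx hidx using hcov
  let 𝒰 : U.OpenCover :=
    { I₀ := U, X := fun x => E.X (idx x), f := fun x => ι (idx x),
      mem₀ := by
        rw [Scheme.presieve₀_mem_precoverage_iff]
        exact ⟨fun x => ⟨x, hidx x⟩, fun x => hι _⟩ }
  have hsh := hp T U f hf hs
  intro x hx
  have hx' := hx
  let y : ∀ a : U, F.obj (op (E.X (idx a))) := fun a => x (E.f (idx a)) ⟨idx a⟩
  have hzU : Presieve.IsSheafFor F (Presieve.ofArrows 𝒰.X 𝒰.f) := by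
    rw [Presieve.isSheafFor_iff_generate]
    exact hz _ 𝒰.mem_grothendieckTopology
  have hyc : Presieve.Arrows.Compatible F 𝒰.f y := fun a b Z gi gj comm => by
    refine hx gi gj ⟨idx a⟩ ⟨idx b⟩ ?_
    rw [← hfac (idx a), ← hfac (idx b), ← Category.assoc, ← Category.assoc]
    exact congrArg (· ≫ f) comm
  obtain ⟨s, hs', -⟩ := (Presieve.isSheafFor_arrows_iff F _).mp hzU y hyc
  have hsx : ∀ j, F.map (ι j).op s = x (E.f j) ⟨j⟩ := fun j => by
    refine ext_of_openImmersions F hz (U := E.X j) (I := U)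
      (fun a => pullback (ι j) (ι (idx a))) (fun a => pullback.fst _ _)
      (fun a => by have := hι (idx a); infer_instance) (fun z => ?_) fun a => ?_
    · obtain ⟨b, hb⟩ := hidx (ι j z)
      obtain ⟨c, hc, -⟩ := Scheme.Pullback.exists_preimage_pullback (f := ι j) (g := ι (idx (ι j z))) z b hb.symm
      exact ⟨ι j z, c, hc⟩
    · rw [← comp_apply, ← Functor.map_comp, ← op_comp, pullback.condition, op_comp, Functor.map_comp, comp_apply,
        show F.map (ι (idx a)).op s = y a from hs' a]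
      refine hx _ _ ⟨idx a⟩ ⟨j⟩ ?_
      rw [← hfac (idx a), ← hfac j, ← Category.assoc, ← Category.assoc, pullback.condition]
  have hsc : ∀ ⦃Z : Scheme.{u}⦄ (g₁ g₂ : Z ⟶ U), g₁ ≫ f = g₂ ≫ f → F.map g₁.op s = F.map g₂.op s := by
    intro Z g₁ g₂ comm
    refine ext_of_openImmersions F hz (U := Z) (I := U × U)
      (fun ab => pullback (pullback.fst g₁ (ι (idx ab.1)) ≫ g₂) (ι (idx ab.2)))
      (fun ab => pullback.fst _ _ ≫ pullback.fst g₁ (ι (idx ab.1)))
      (fun ab => by have := hι (idx ab.1); have := hι (idx ab.2); infer_instance) (fun z => ?_) fun ab => ?_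
    · obtain ⟨b, hb⟩ := hidx (g₁ z)
      obtain ⟨c, hc, -⟩ := Scheme.Pullback.exists_preimage_pullback (f := g₁) (g := ι (idx (g₁ z))) z b hb.symm
      obtain ⟨b', hb'⟩ := hidx (g₂ z)
      obtain ⟨c', hc', -⟩ := Scheme.Pullback.exists_preimage_pullback
        (f := pullback.fst g₁ (ι (idx (g₁ z))) ≫ g₂) (g := ι (idx (g₂ z))) c b'
        (by rw [Scheme.Hom.comp_apply, hc, hb'])
      exact ⟨(g₁ z, g₂ z), c', by rw [Scheme.Hom.comp_apply, hc', hc]⟩
    · simp only [← comp_apply, ← Functor.map_comp, ← op_comp, Category.assoc]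
      rw [pullback.condition (f := g₁), pullback.condition]
      simp only [op_comp, Functor.map_comp, comp_apply]
      rw [hsx, hsx]
      rw [← comp_apply, ← Functor.map_comp, ← op_comp]
      refine hx _ _ _ _ ?_
      rw [← hfac, ← hfac, Category.assoc, ← pullback.condition_assoc (f := g₁), comm,
        ← pullback.condition_assoc]
      simp
  let z : Presieve.FamilyOfElements F (Presieve.singleton f) := fun Y g hg => by
    cases hg; exact s
  have hzc : z.Compatible := by
    intro Y₁ Y₂ Z g₁ g₂ f₁ f₂ h₁ h₂ comm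
    cases h₁; cases h₂
    exact hsc g₁ g₂ comm
  refine ⟨hsh.amalgamate z hzc, ?_, fun t' ht' => ?_⟩
  · rintro _ _ ⟨j⟩
    refine (congrArg (fun k => F.map k.op (hsh.amalgamate z hzc)) (hfac j).symm).trans ?_
    simp only [op_comp, Functor.map_comp, comp_apply, hsh.valid_glue hzc f ⟨⟩]
    exact hsx j
  · apply hsh.isSeparatedFor.ext
    rintro _ _ ⟨⟩
    rw [hsh.valid_glue hzc f ⟨⟩]
    refine ext_of_openImmersions F hz (U := U) (I := U) (fun a => E.X (idx a)) (fun a => ι (idx a))
      (fun a => hι _) (fun a => ⟨a, hidx a⟩) fun a => ?_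
    show F.map (ι (idx a)).op (F.map f.op t') = F.map (ι (idx a)).op s
    rw [hsx, ← comp_apply, ← Functor.map_comp, ← op_comp, hfac]
    exact ht' _ ⟨idx a⟩

theorem hasPhData_pullback₂ {T' : Scheme.{u}} (g : T' ⟶ T) (E : PreZeroHypercover.{w} T)
    (hE : HasPhData E) : HasPhData (E.pullback₂ g) := by
  obtain ⟨U, f, ι, hf, hs, hι, hfac, hcov⟩ := hasPhData_pullback₁ g E hE
  refine ⟨U, f, fun j => (pullbackSymmetry (E.f j) g).hom ≫ ι j, hf, hs, fun j => ?_, fun j => ?_, fun x => ?_⟩
  · have := hι j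
    exact inferInstanceAs (IsOpenImmersion (_ ≫ ι j))
  · exact (Category.assoc _ _ _).trans
      ((congrArg ((pullbackSymmetry (E.f j) g).hom ≫ ·) (hfac j)).trans (pullbackSymmetry_hom_comp_fst _ _))
  · obtain ⟨j, y, hy⟩ := hcov x
    refine ⟨j, (pullbackSymmetry (E.f j) g).inv y, ?_⟩
    show ((pullbackSymmetry (E.f j) g).inv ≫ (pullbackSymmetry (E.f j) g).hom ≫ ι j) y = x
    rw [Iso.inv_hom_id_assoc]
    exact hy

/-- A family refined over `a : S ⟶ T` by a family with ph data. -/
theorem isSheafFor_pullback₂ (hz : Presieve.IsSheaf Scheme.zariskiTopology F) (hp : ProperCond F)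
    (E : PreZeroHypercover.{w} T) {S : Scheme.{u}} (a : S ⟶ T) (G : PreZeroHypercover.{w'} S)
    (hG : HasPhData G) (hr : RefinesOver a G E) : Presieve.IsSheafFor F (E.pullback₂ a).presieve₀ := by
  rw [Presieve.isSheafFor_iff_generate]
  apply Presieve.isSheafFor_subsieve_aux (S := .generate G.presieve₀)
  · rw [← Sieve.generate_le_iff, Sieve.generate_sieve, Sieve.generate_le_iff, Presieve.ofArrows_le_iff]
    intro j
    obtain ⟨l, c, hc⟩ := hr j
    exact ⟨_, pullback.lift c (G.f j) hc, (E.pullback₂ a).f l, ⟨l⟩, pullback.lift_snd _ _ _⟩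
  · rw [← Presieve.isSheafFor_iff_generate]
    exact isSheafFor_of_hasPhData F hz hp G hG
  · intro Y f _
    rw [← Sieve.pullbackArrows_comm, ← Presieve.isSeparatedFor_iff_generate]
    show Presieve.IsSeparatedFor F (Presieve.pullbackArrows f (Presieve.ofArrows G.X G.f))
    rw [← Presieve.ofArrows_pullback]
    exact (isSheafFor_of_hasPhData F hz hp (G.pullback₂ f) (hasPhData_pullback₂ f G hG)).isSeparatedFor

theorem isPhSheaf (hz : Presieve.IsSheaf Scheme.zariskiTopology F) (hp : ProperCond F) :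
    IsPhSheaf F := by
  intro T R hR
  obtain ⟨E, rfl⟩ := R.exists_eq_preZeroHypercover
  rw [presieve₀_mem_phPrecoverage_iff] at hR
  have key : ∀ i, ∃ G : PreZeroHypercover.{0} (T.affineCover.X i),
      HasPhData G ∧ RefinesOver (T.affineCover.f i) G E := fun i => by
    let a := T.affineCover.f i
    obtain ⟨G, hG, hr⟩ := hR.2 ⟨a.opensRange, isAffineOpen_opensRange a⟩
    let e := a.isoOpensRange
    refine ⟨G.pullback₁ e.hom, hasPhData_pullback₁ e.hom G hG.exists_proper, fun j => ?_⟩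
    obtain ⟨l, c, hc⟩ := hr j
    refine ⟨l, pullback.snd e.hom (G.f j) ≫ c, ?_⟩
    show (pullback.snd e.hom (G.f j) ≫ c) ≫ E.f l = pullback.fst e.hom (G.f j) ≫ a
    rw [Category.assoc, hc, ← pullback.condition_assoc]
    show pullback.fst e.hom (G.f j) ≫ e.hom ≫ a.opensRange.ι = _
    rw [Scheme.Hom.isoOpensRange_hom_ι]
  choose G hG hr using key
  refine T.affineOneHypercover.isSheafFor_of_pullback hz (fun i => ?_) (fun i j k => ?_)
  · rw [← Sieve.pullbackArrows_comm, ← Presieve.isSheafFor_iff_generate, ← Presieve.ofArrows_pullback]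
    exact isSheafFor_pullback₂ F hz hp E (T.affineCover.f i) (G i) (hG i) (hr i)
  · rw [← Sieve.pullbackArrows_comm, ← Presieve.isSeparatedFor_iff_generate, ← Presieve.ofArrows_pullback]
    let p := T.affineOneHypercover.p₁ k
    refine (isSheafFor_pullback₂ F hz hp E (p ≫ T.affineCover.f i) ((G i).pullback₁ p)
      (hasPhData_pullback₁ p _ (hG i)) fun l => ?_).isSeparatedFor
    obtain ⟨m, c, hc⟩ := hr i l
    refine ⟨m, pullback.snd p ((G i).f l) ≫ c, ?_⟩
    show (pullback.snd p ((G i).f l) ≫ c) ≫ E.f m = pullback.fst p ((G i).f l) ≫ p ≫ T.affineCover.f i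
    rw [Category.assoc, hc]
    exact (pullback.condition_assoc _).symm

end Groth.Agent.VTop
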